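import Mathlib
import Cfsg.Agent.Lib.Helper69.APQ.Defs

/-!
# APQ (= S4150): package [NTINEQ]

The main inequality of Bertrand's postulate with an extra factor `(2n)²`, for `n ≥ 2048`.
The proof follows Mathlib's `Bertrand.real_main_inequality`.
-/

set_option autoImplicit false

namespace Cfsg.Agent.Lib.Helper22.APQ

open Real

/-- The real inequality: `x * (2x)^(√(2x) + 2) ≤ 4^(x/3)` for `x ≥ 2048`. -/
theorem real_ineq_aux {x : ℝ} (x_large : (2048 : ℝ) ≤ x) :
    x * (2 * x) ^ (√(2 * x) + 2) ≤ 4 ^ (x / 3) := by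
  let f : ℝ → ℝ := fun x => log x + √(2 * x) * log (2 * x) + 2 * log (2 * x) - log 4 / 3 * x
  have hf : ∀ x, 0 < x → f x = log (x * (2 * x) ^ (√(2 * x) + 2)) - log (4 ^ (x / 3)) := by
    intro x h5
    have h6 := mul_pos (zero_lt_two' ℝ) h5
    have h7 := rpow_pos_of_pos h6 (√(2 * x) + 2)
    rw [log_mul h5.ne' h7.ne', log_rpow h6, log_rpow zero_lt_four]
    simp only [f]
    ring
  have h5 : 0 < x := lt_of_lt_of_le (by norm_num1) x_large
  have h : ConcaveOn ℝ (Set.Ioi 0.5) f := by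
    apply ConcaveOn.sub
    · apply ConcaveOn.add
      · apply ConcaveOn.add
        · exact strictConcaveOn_log_Ioi.concaveOn.subset
            (Set.Ioi_subset_Ioi (by norm_num)) (convex_Ioi 0.5)
        convert!
          ((strictConcaveOn_sqrt_mul_log_Ioi.concaveOn.comp_linearMap ((2 : ℝ) • LinearMap.id)))
          using 1
        ext x
        simp only [Set.mem_Ioi, Set.mem_preimage, LinearMap.smul_apply,
          LinearMap.id_coe, id_eq, smul_eq_mul]
        rw [← mul_lt_mul_iff_right₀ (two_pos)]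
        norm_num1
        rfl
      · apply ConcaveOn.smul (by norm_num1)
        have h1 : ConcaveOn ℝ (Set.Ioi (0.5 : ℝ)) (fun x : ℝ => log 2 + log x) :=
          (concaveOn_const (log 2) (convex_Ioi 0.5)).add
            (strictConcaveOn_log_Ioi.concaveOn.subset
              (Set.Ioi_subset_Ioi (by norm_num)) (convex_Ioi 0.5))
        refine h1.congr ?_
        intro y hy
        have hy0 : (0 : ℝ) < y := lt_trans (by norm_num) (Set.mem_Ioi.mp hy)
        exact (log_mul (by norm_num) hy0.ne').symm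
    apply ConvexOn.smul
    · refine div_nonneg (log_nonneg (by norm_num1)) (by norm_num1)
    · exact convexOn_id (convex_Ioi (0.5 : ℝ))
  have hfx : f x ≤ 0 := by
    suffices ∃ x1 x2, 0.5 < x1 ∧ x1 < x2 ∧ x2 ≤ x ∧ 0 ≤ f x1 ∧ f x2 ≤ 0 by
      obtain ⟨x1, x2, h1, h2, h0, h3, h4⟩ := this
      exact (h.right_le_of_le_left'' h1 ((h1.trans h2).trans_le h0) h2 h0 (h4.trans h3)).trans h4
    refine ⟨18, 2048, by norm_num1, by norm_num1, x_large, ?_, ?_⟩
    · have : √(2 * 18 : ℝ) = 6 := (sqrt_eq_iff_mul_self_eq_of_pos (by norm_num1)).mpr (by norm_num1)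
      rw [hf _ (by norm_num1), sub_nonneg, this]
      apply log_le_log (by positivity)
      have e1 : (4 : ℝ) ^ ((18 : ℝ) / 3) = 4 ^ (6 : ℕ) := by
        rw [← rpow_natCast]; norm_num
      have e2 : (2 * 18 : ℝ) ^ ((6 : ℝ) + 2) = 36 ^ (8 : ℕ) := by
        rw [← rpow_natCast]; norm_num
      rw [e1, e2]
      norm_num1
    · have : √(2 * 2048 : ℝ) = 64 :=
        (sqrt_eq_iff_mul_self_eq_of_pos (by norm_num1)).mpr (by norm_num1)
      rw [hf _ (by norm_num1), sub_nonpos, this]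
      apply log_le_log (by positivity)
      have e2 : (2 * 2048 : ℝ) ^ ((64 : ℝ) + 2) = 2 ^ (792 : ℝ) := by
        have : (2 * 2048 : ℝ) = 2 ^ (12 : ℝ) := by
          rw [show (12 : ℝ) = ((12 : ℕ) : ℝ) by norm_num, rpow_natCast]; norm_num1
        rw [this, ← rpow_mul (by norm_num1)]
        congr 1
        norm_num1
      have e3 : (2048 : ℝ) = 2 ^ (11 : ℝ) := by
        rw [show (11 : ℝ) = ((11 : ℕ) : ℝ) by norm_num, rpow_natCast]; norm_num1
      have e1 : (4 : ℝ) ^ ((2048 : ℝ) / 3) = 2 ^ ((4096 : ℝ) / 3) := by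
        have : (4 : ℝ) = 2 ^ (2 : ℝ) := by rw [rpow_two]; norm_num1
        rw [this, ← rpow_mul (by norm_num1)]
        congr 1
        norm_num1
      rw [e2, e1]
      nth_rewrite 1 [e3]
      rw [← rpow_add (by norm_num1)]
      apply rpow_le_rpow_of_exponent_le (by norm_num1)
      norm_num1
  rw [hf x h5, sub_nonpos] at hfx
  have h6 := mul_pos (zero_lt_two' ℝ) h5
  have h7 := rpow_pos_of_pos h6 (√(2 * x) + 2)
  exact (log_le_log_iff (mul_pos h5 h7) (rpow_pos_of_pos four_pos _)).mp hfx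

theorem real_ineq {x : ℝ} (x_large : (2048 : ℝ) ≤ x) :
    x * (2 * x) ^ (√(2 * x) + 2) * 4 ^ (2 * x / 3) ≤ 4 ^ x := by
  have h := real_ineq_aux x_large
  have e : (4 : ℝ) ^ x = 4 ^ (x / 3) * 4 ^ (2 * x / 3) := by
    rw [← rpow_add four_pos]
    congr 1
    ring
  rw [e]
  exact mul_le_mul_of_nonneg_right h (rpow_nonneg (by norm_num) _)

/-- [NTINEQ] -/
theorem pkgNTIneq : Cfsg.Agent.Lib.Helper69.APQ.PkgNTIneq := by
  intro n n_large
  have hn0 : (0 : ℝ) < (n : ℝ) := by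
    have : 0 < n := by omega
    exact_mod_cast this
  have h2n : (0 : ℝ) < 2 * (n : ℝ) := by positivity
  have h2n1 : (1 : ℝ) ≤ 2 * (n : ℝ) := by
    have : 1 ≤ 2 * n := by omega
    exact_mod_cast this
  rw [← @Nat.cast_le ℝ]
  have hx : (2048 : ℝ) ≤ (n : ℝ) := by exact_mod_cast n_large
  refine le_trans ?_ (le_trans (real_ineq hx) ?_)
  · push_cast
    have e1 : (2 * (n : ℝ)) ^ (√(2 * (n : ℝ)) + 2) =
        (2 * (n : ℝ)) ^ (√(2 * (n : ℝ))) * (2 * (n : ℝ)) ^ (2 : ℕ) := by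
      rw [rpow_add h2n, ← rpow_natCast]
      norm_num
    rw [e1]
    have a1 : (2 * (n : ℝ)) ^ (Nat.sqrt (2 * n)) ≤ (2 * (n : ℝ)) ^ (√(2 * (n : ℝ))) := by
      rw [← rpow_natCast]
      apply rpow_le_rpow_of_exponent_le h2n1
      have := @Real.nat_sqrt_le_real_sqrt (2 * n)
      push_cast at this
      exact this
    have a2 : (4 : ℝ) ^ (2 * n / 3) ≤ (4 : ℝ) ^ (2 * (n : ℝ) / 3) := by
      rw [← rpow_natCast]
      apply rpow_le_rpow_of_exponent_le (by norm_num1)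
      have := @Nat.cast_div_le ℝ _ _ _ (2 * n) 3
      push_cast at this
      exact this
    have p1 : (0 : ℝ) ≤ (2 * (n : ℝ)) ^ (Nat.sqrt (2 * n)) := by positivity
    have p2 : (0 : ℝ) ≤ (4 : ℝ) ^ (2 * n / 3) := by positivity
    have p3 : (0 : ℝ) ≤ (2 * (n : ℝ)) ^ (2 : ℕ) := by positivity
    have p4 : (0 : ℝ) ≤ (2 * (n : ℝ)) ^ (√(2 * (n : ℝ))) := rpow_nonneg h2n.le _
    calc (n : ℝ) * ((2 * (n : ℝ)) ^ (Nat.sqrt (2 * n)) * 4 ^ (2 * n / 3) * (2 * (n : ℝ)) ^ 2)
        = (n : ℝ) * ((2 * (n : ℝ)) ^ (Nat.sqrt (2 * n)) * (2 * (n : ℝ)) ^ 2) * 4 ^ (2 * n / 3) := by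
          ring
      _ ≤ (n : ℝ) * ((2 * (n : ℝ)) ^ (√(2 * (n : ℝ))) * (2 * (n : ℝ)) ^ (2 : ℕ)) *
            (4 : ℝ) ^ (2 * (n : ℝ) / 3) := by
          apply mul_le_mul _ a2 p2 (by positivity)
          apply mul_le_mul_of_nonneg_left _ hn0.le
          exact mul_le_mul_of_nonneg_right a1 p3
  · rw [rpow_natCast]
    push_cast
    exact le_rfl

end Cfsg.Agent.Lib.Helper22.APQ
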